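import Mathlib

set_option autoImplicit false
set_option backward.isDefEq.respectTransparency false
set_option backward.defeqAttrib.useBackward true
set_option linter.style.haveILetI false

/-!
# Sections of flat quasi-finite algebras lie in the image of a torsion module

For `A → B` flat, finitely presented, quasi-finite and `g ≠ 0` in `B`: after localizing, there is a
finitely generated ideal `J` killing `g` with `B/JB` finite free over `A/J`; then `g` lies in the
image of `Ann(J)^r → B`, which is injective by flatness.
-/

universe u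

open TensorProduct Polynomial

namespace Groth.Agent.QfRank

variable {A B : Type u} [CommRing A] [CommRing B] [Algebra A B]

/-- The torsion module statement, when `B/JB` is free over `A/J` with basis `e`. -/
theorem exists_injective_of_basis [Module.Flat A B] {r : ℕ} (J : Ideal A) (hJ : J.FG)
    (e : Fin r → B)
    (hspan : ∀ x : B, ∃ c : Fin r → A, x - ∑ i, c i • e i ∈ J.map (algebraMap A B))
    (hind : ∀ c : Fin r → A, ∑ i, c i • e i ∈ J.map (algebraMap A B) → ∀ i, c i ∈ J)
    (g : B) (hg : ∀ j ∈ J, algebraMap A B j * g = 0) :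
    ∃ (F : Ideal A) (φ : (Fin r → ↥F) →ₗ[A] B), Function.Injective φ ∧ g ∈ LinearMap.range φ := by
  obtain ⟨m, a, ha⟩ := Submodule.fg_iff_exists_fin_generating_family.mp hJ
  set q : A →ₗ[A] (Fin m → A) := LinearMap.pi fun k => LinearMap.mulRight A (a k) with hq
  set F : Ideal A := LinearMap.ker q with hF
  have hJF : ∀ j ∈ J, ∀ v ∈ F, j * v = 0 := by
    intro j hj v hv
    rw [← ha] at hj
    induction hj using Submodule.span_induction with
    | mem x hx =>
      obtain ⟨k, rfl⟩ := hx
      simpa [hF, hq, mul_comm] using congr_fun (LinearMap.mem_ker.mp hv) k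
    | zero => simp
    | add x y _ _ h1 h2 => rw [add_mul, h1, h2, add_zero]
    | smul t x _ h1 => rw [smul_eq_mul, mul_assoc, h1, mul_zero]
  -- the multiplication map
  set μ : F ⊗[A] B →ₗ[A] B :=
    (TensorProduct.lid A B).toLinearMap ∘ₗ F.subtype.rTensor B with hμ
  have hμinj : Function.Injective μ := by
    rw [hμ, LinearMap.coe_comp, LinearEquiv.coe_coe]
    exact (TensorProduct.lid A B).injective.comp
      (Module.Flat.rTensor_preserves_injective_linearMap F.subtype Subtype.val_injective)
  have hgμ : g ∈ LinearMap.range μ := by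
    have hex : Function.Exact F.subtype q := LinearMap.exact_subtype_ker_map q
    have hex' := Module.Flat.rTensor_exact B hex
    have h0 : q.rTensor B (1 ⊗ₜ[A] g) = 0 := by
      rw [LinearMap.rTensor_tmul]
      have : q 1 = ∑ k, a k • Pi.single k (1 : A) := by
        rw [hq]; ext k; simp [Finset.sum_apply, Pi.single_apply]
      rw [this, TensorProduct.sum_tmul]
      refine Finset.sum_eq_zero fun k _ => ?_
      rw [TensorProduct.smul_tmul, Algebra.smul_def,
        hg (a k) (ha ▸ Submodule.subset_span ⟨k, rfl⟩), TensorProduct.tmul_zero]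
    obtain ⟨w, hw⟩ := (hex' _).mp h0
    exact ⟨w, by simp [hμ, hw]⟩
  -- coordinates
  choose c hc using hspan
  have huniq : ∀ (x : B) (d : Fin r → A), x - ∑ i, d i • e i ∈ J.map (algebraMap A B) →
      ∀ i, c x i - d i ∈ J := fun x d hd i =>
    hind (fun i => c x i - d i) (by
      have := sub_mem hd (hc x)
      simpa [sub_smul, Finset.sum_sub_distrib] using this) i
  have hkill : ∀ (v : F) (j : A), j ∈ J → j • v = 0 := fun v j hj =>
    Subtype.ext (hJF j hj v v.2)
  have hsm : ∀ (v : F) (s t : A), s - t ∈ J → s • v = t • v := fun v s t h => by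
    rw [← sub_eq_zero, ← sub_smul]; exact hkill v _ h
  set Θ : (Fin r → F) →ₗ[A] F ⊗[A] B :=
    ∑ i, ((TensorProduct.mk A F B).flip (e i)) ∘ₗ LinearMap.proj i with hΘ
  set bil : F →ₗ[A] B →ₗ[A] (Fin r → F) := LinearMap.mk₂ A (fun v x i => c x i • v)
    (fun v w x => by ext i; simp [smul_add])
    (fun t v x => by ext i; simp [mul_left_comm])
    (fun v x y => by
      funext i
      refine (hsm v _ (c x i + c y i) (huniq (x + y) (c x + c y) ?_ i)).trans (add_smul _ _ _)
      have := add_mem (hc x) (hc y)
      simpa [add_smul, Finset.sum_add_distrib, add_sub_add_comm] using this)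
    (fun t v x => by
      funext i
      refine (hsm v _ (t * c x i) (huniq (t • x) (fun i => t * c x i) ?_ i)).trans (mul_smul _ _ _)
      have := Ideal.mul_mem_left _ (algebraMap A B t) (hc x)
      rw [mul_sub, ← Algebra.smul_def, ← Algebra.smul_def, Finset.smul_sum] at this
      simpa [smul_smul] using this) with hbil
  have hΨΘ : ∀ v, TensorProduct.lift bil (Θ v) = v := by
    intro v
    funext i
    simp only [hΘ, LinearMap.sum_apply, LinearMap.coe_comp, Function.comp_apply,
      LinearMap.proj_apply, LinearMap.flip_apply, TensorProduct.mk_apply, map_sum,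
      TensorProduct.lift.tmul, hbil, LinearMap.mk₂_apply, Finset.sum_apply]
    rw [Finset.sum_eq_single i]
    · have h := huniq (e i) (Pi.single i 1)
        (by simp [Pi.single_apply, ite_smul]) i
      rw [Pi.single_eq_same] at h
      rw [hsm (v i) _ 1 h, one_smul]
    · intro k _ hk
      have h := huniq (e k) (Pi.single k 1)
        (by simp [Pi.single_apply, ite_smul]) i
      rw [Pi.single_eq_of_ne (Ne.symm hk)] at h
      rw [hsm (v k) _ 0 h, zero_smul]
    · simp
  have hvy : ∀ (v : F), ∀ y ∈ J.map (algebraMap A B), v ⊗ₜ[A] y = 0 := by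
    intro v y hy
    rw [Ideal.map] at hy
    induction hy using Submodule.span_induction generalizing v with
    | mem x hx =>
      obtain ⟨j, hj, rfl⟩ := hx
      rw [Algebra.algebraMap_eq_smul_one, ← TensorProduct.smul_tmul, hkill v j hj,
        TensorProduct.zero_tmul]
    | zero => simp
    | add x y _ _ h1 h2 => rw [TensorProduct.tmul_add, h1, h2, add_zero]
    | smul t x _ h1 =>
      have h2 := congr_arg ((LinearMap.mulLeft A t).lTensor F) (h1 v)
      simpa using h2
  have hΘsurj : ∀ w, w ∈ LinearMap.range Θ := by
    intro w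
    induction w using TensorProduct.induction_on with
    | zero => exact zero_mem _
    | tmul v x =>
      refine ⟨fun i => c x i • v, ?_⟩
      have h1 : v ⊗ₜ[A] x = v ⊗ₜ[A] (∑ i, c x i • e i) := by
        rw [← sub_eq_zero, ← TensorProduct.tmul_sub]; exact hvy v _ (hc x)
      rw [h1, hΘ]
      simp [TensorProduct.tmul_sum]
    | add x y hx hy => exact add_mem hx hy
  refine ⟨F, μ ∘ₗ Θ, hμinj.comp (Function.LeftInverse.injective hΨΘ), ?_⟩
  obtain ⟨w, rfl⟩ := hgμ
  obtain ⟨v, rfl⟩ := hΘsurj w
  exact ⟨v, rfl⟩

end Groth.Agent.QfRank
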