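import Mathlib

set_option autoImplicit false
set_option backward.isDefEq.respectTransparency false
set_option backward.defeqAttrib.useBackward true
set_option linter.style.haveILetI false

/-!
# Elementwise bases of finitely presented flat modules near a prime
-/

universe u

namespace Groth.Agent.QfRank

open LocalizedModule

/-- A finitely presented flat module has, after inverting an element outside a given prime, an
elementwise basis consisting of elements of the module. -/
theorem exists_basis_away {R : Type u} [CommRing R] (p : Ideal R) [p.IsPrime] (D : Type u)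
    [AddCommGroup D] [Module R D] [Module.FinitePresentation R D] [Module.Flat R D]
    (hD : Nontrivial (LocalizedModule p.primeCompl D)) :
    ∃ (r : R) (n : ℕ) (d : Fin n → D), r ∉ p ∧ 0 < n ∧
      (∀ x : D, ∃ (N : ℕ) (c : Fin n → R), r ^ N • x = ∑ i, c i • d i) ∧
      (∀ c : Fin n → R, ∑ i, c i • d i = 0 → ∀ i, ∃ N : ℕ, r ^ N * c i = 0) := by
  classical
  set S := p.primeCompl with hS
  set Rp := Localization.AtPrime p with hRp
  haveI : Module.Finite Rp (LocalizedModule S D) :=
    Module.Finite.of_isLocalizedModule S (Rₚ := Rp) (LocalizedModule.mkLinearMap S D)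
  haveI : Module.Flat Rp (LocalizedModule S D) := inferInstance
  haveI : Module.Free Rp (LocalizedModule S D) := Module.free_of_flat_of_isLocalRing
  set n := Module.finrank Rp (LocalizedModule S D) with hn
  set b := Module.finBasis Rp (LocalizedModule S D) with hb
  choose ds hds using fun i => IsLocalizedModule.surj S (LocalizedModule.mkLinearMap S D) (b i)
  set d : Fin n → D := fun i => (ds i).1 with hd
  have hu : ∀ i, IsUnit (algebraMap R Rp ((ds i).2 : R)) := fun i =>
    IsLocalization.map_units Rp (ds i).2
  set b' := b.unitsSMul fun i => (hu i).unit with hb'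
  have hb'd : ∀ i, b' i = LocalizedModule.mkLinearMap S D (d i) := fun i => by
    rw [hb', Module.Basis.unitsSMul_apply, ← hds i]
    show algebraMap R Rp ((ds i).2 : R) • b i = _
    rw [algebraMap_smul]
    rfl
  set Φ : (Fin n → R) →ₗ[R] D := Fintype.linearCombination R d with hΦ
  set f := LocalizedModule.mkLinearMap S (Fin n → R) with hf
  set g := LocalizedModule.mkLinearMap S D with hg
  have hΦb : ∀ c : Fin n → R, g (Φ c) = ∑ i, algebraMap R Rp (c i) • b' i := fun c => by
    simp [hΦ, Fintype.linearCombination_apply, map_sum, hb'd, algebraMap_smul, hg]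
  have hinj : Function.Injective (IsLocalizedModule.map S f g Φ) := by
    rw [injective_iff_map_eq_zero]
    intro z hz
    obtain ⟨⟨v, s⟩, rfl⟩ := IsLocalizedModule.mk'_surjective S f z
    simp only [Function.uncurry_apply_pair, IsLocalizedModule.map_mk',
      IsLocalizedModule.mk'_eq_zero] at hz
    rw [hΦb] at hz
    have h0 := Fintype.linearIndependent_iff.mp b'.linearIndependent _ hz
    choose t ht using fun i => (IsLocalization.map_eq_zero_iff S Rp _).mp (h0 i)
    simp only [Function.uncurry_apply_pair, IsLocalizedModule.mk'_eq_zero]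
    refine (IsLocalizedModule.eq_zero_iff S f).mpr ⟨∏ i, t i, ?_⟩
    funext i
    rw [Pi.smul_apply, Submonoid.smul_def, Pi.zero_apply, smul_eq_mul,
      Submonoid.coe_finsetProd, ← Finset.prod_erase_mul _ _ (Finset.mem_univ i),
      mul_assoc, ht, mul_zero]
  have hsurj : Function.Surjective (IsLocalizedModule.map S f g Φ) := by
    intro y
    obtain ⟨⟨x, s⟩, rfl⟩ := IsLocalizedModule.mk'_surjective S g y
    choose cs hcs using fun i => IsLocalization.surj S (b'.repr (g x) i)
    set v : Fin n → R := fun i => (∏ k ∈ Finset.univ.erase i, ((cs k).2 : R)) * (cs i).1 with hv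
    have key : g (Φ v) = ((∏ k, (cs k).2 : S) : R) • g x := by
      conv_rhs => rw [← b'.sum_repr (g x), Finset.smul_sum]
      rw [hΦb]
      refine Finset.sum_congr rfl fun i _ => ?_
      rw [← algebraMap_smul Rp (((∏ k, (cs k).2 : S) : R)) (b'.repr (g x) i • b' i), smul_smul]
      congr 1
      rw [Submonoid.coe_finsetProd, ← Finset.prod_erase_mul _ _ (Finset.mem_univ i), map_mul]
      simp only [map_mul]
      rw [← hcs i]
      ring
    refine ⟨IsLocalizedModule.mk' f v ((∏ k, (cs k).2) * s), ?_⟩
    simp only [Function.uncurry_apply_pair, IsLocalizedModule.map_mk']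
    rw [IsLocalizedModule.mk'_eq_iff, key]
    show _ = ((((∏ k, (cs k).2) * s : S) : R)) • IsLocalizedModule.mk' g x s
    rw [Submonoid.coe_mul, mul_smul, ← Submonoid.smul_def s, IsLocalizedModule.mk'_cancel']
  obtain ⟨r, hr, hbij⟩ := exists_bijective_map_powers S f g Φ ⟨hinj, hsurj⟩
  have hn0 : 0 < n := Nat.pos_of_ne_zero fun h0 => by
    haveI : IsEmpty (Fin n) := by rw [h0]; infer_instance
    exact (not_subsingleton (LocalizedModule S D)) b'.repr.toEquiv.subsingleton
  refine ⟨r, n, d, hr, hn0, fun x => ?_, fun c hc i => ?_⟩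
  · obtain ⟨z, hz⟩ := (hbij r dvd_rfl).2 (LocalizedModule.mkLinearMap _ D x)
    induction z using LocalizedModule.induction_on with
    | h v s =>
      obtain ⟨_, N, rfl⟩ := s
      rw [LocalizedModule.map_mk, LocalizedModule.mkLinearMap_apply, LocalizedModule.mk_eq] at hz
      obtain ⟨⟨_, M, rfl⟩, hM⟩ := hz
      refine ⟨M + N, fun i => r ^ M * v i, ?_⟩
      simp only [Submonoid.smul_def, one_smul] at hM
      rw [pow_add, mul_smul, ← hM]
      simp [hΦ, Fintype.linearCombination_apply, Finset.smul_sum, mul_smul]
  · have h1 : LocalizedModule.map (Submonoid.powers r) Φ (LocalizedModule.mkLinearMap _ _ c) = 0 := by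
      rw [LocalizedModule.mkLinearMap_apply, LocalizedModule.map_mk, hΦ,
        Fintype.linearCombination_apply, hc, LocalizedModule.zero_mk]
    have h2 := (map_eq_zero_iff _ (hbij r dvd_rfl).1).mp h1
    obtain ⟨⟨_, N, rfl⟩, hN⟩ := (IsLocalizedModule.eq_zero_iff (Submonoid.powers r) _).mp h2
    exact ⟨N, by simpa [Submonoid.smul_def] using congr_fun hN i⟩

end Groth.Agent.QfRank
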