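import Mathlib
import Groth.Agent.QfRank.Alg
import Groth.Agent.QfRank.Free

set_option autoImplicit false
set_option backward.isDefEq.respectTransparency false
set_option backward.defeqAttrib.useBackward true
set_option linter.style.haveILetI false

/-!
# The two localization stages
-/

universe u

open TensorProduct Polynomial

namespace Groth.Agent.QfRank

variable {A B : Type u} [CommRing A] [CommRing B] [Algebra A B]

/-- Annihilators of elements survive localization outside a prime. -/
theorem algebraMap_ne_zero {B' : Type u} [CommRing B'] [Algebra B B'] (s : B)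
    [IsLocalization.Away s B'] (g : B) (q : Ideal B) [q.IsPrime] (hs : s ∉ q)
    (hann : ∀ t, t * g = 0 → t ∈ q) : algebraMap B B' g ≠ 0 := by
  intro h
  obtain ⟨⟨_, n, rfl⟩, hn⟩ := (IsLocalization.map_eq_zero_iff (Submonoid.powers s) B' g).mp h
  exact hs (Ideal.IsPrime.mem_of_pow_mem ‹_› n (hann _ hn))

/-- Integrality of an element modulo a finitely generated ideal in `p`, from integrality of its
image in the fibre over `p`. -/
theorem exists_polynomial [Algebra.FiniteType A B] (p : Ideal A) [p.IsPrime]
    [Module.Finite p.ResidueField (p.Fiber B)] (x : B) :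
    ∃ (I : Ideal A) (P : A[X]), I.FG ∧ I ≤ p ∧ P.leadingCoeff ∉ p ∧
      aeval x P ∈ I.map (algebraMap A B) := by
  classical
  obtain ⟨Q, hQm, hQ⟩ := Algebra.IsIntegral.isIntegral (R := p.ResidueField)
    (1 ⊗ₜ[A] x : p.Fiber B)
  obtain ⟨s, hs, hsQ⟩ := IsLocalization.integerNormalization_spec
    (nonZeroDivisors (A ⧸ p)) (S := p.ResidueField) Q
  set P1 : (A ⧸ p)[X] := IsLocalization.integerNormalization (nonZeroDivisors (A ⧸ p)) Q
  have hs0 : (algebraMap (A ⧸ p) p.ResidueField) s ≠ 0 := fun h => by
    rw [map_eq_zero_iff _ (IsFractionRing.injective _ _)] at h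
    exact nonZeroDivisors.ne_zero hs h
  have hmap : P1.map (algebraMap (A ⧸ p) p.ResidueField) =
      C (algebraMap (A ⧸ p) p.ResidueField s) * Q := by
    rw [← smul_eq_C_mul, algebraMap_smul]; exact hsQ
  have hP10 : P1 ≠ 0 := by
    intro h
    rw [h, Polynomial.map_zero] at hmap
    exact (mul_ne_zero (C_ne_zero.mpr hs0) hQm.ne_zero) hmap.symm
  obtain ⟨P, hP, hdeg⟩ := Polynomial.mem_lifts_and_degree_eq (f := Ideal.Quotient.mk p) (p := P1)
    (Polynomial.map_surjective _ Ideal.Quotient.mk_surjective P1)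
  have hlead : P.leadingCoeff ∉ p := by
    intro hmem
    apply hP10
    rw [← leadingCoeff_eq_zero, ← hP]
    have : (P.map (Ideal.Quotient.mk p)).natDegree = P.natDegree := by
      rw [hP]; exact (natDegree_eq_of_degree_eq hdeg).symm
    rw [leadingCoeff, coeff_map, this, Ideal.Quotient.eq_zero_iff_mem]
    exact hmem
  have h0 : (1 ⊗ₜ[A] aeval x P : p.Fiber B) = 0 := by
    have h1 : (1 ⊗ₜ[A] aeval x P : p.Fiber B) = aeval (1 ⊗ₜ[A] x : p.Fiber B) P :=
      (aeval_algHom_apply Algebra.TensorProduct.includeRight x P).symm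
    have h2 : P.map (algebraMap A p.ResidueField) =
        P1.map (algebraMap (A ⧸ p) p.ResidueField) := by
      rw [← hP, Polynomial.map_map, ← Ideal.Quotient.algebraMap_eq, ← IsScalarTower.algebraMap_eq]
    have hQ' : aeval (1 ⊗ₜ[A] x : p.Fiber B) Q = 0 := hQ
    rw [h1, ← aeval_map_algebraMap p.ResidueField, h2, hmap, map_mul, hQ', mul_zero]
  -- kernel of `B → p.Fiber B`
  have h3 : Algebra.algebraMapSubmonoid B p.primeCompl ≤ Algebra.algebraMapSubmonoid B p.primeCompl :=
    le_rfl
  letI : Algebra B (p.Fiber B) := Algebra.TensorProduct.rightAlgebra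
  have h4 := congr_arg (Ideal.Fiber.algEquivAux₁ p (S := B)) h0
  rw [map_zero, show (1 ⊗ₜ[A] aeval x P : p.Fiber B) = algebraMap B _ (aeval x P) from rfl,
    AlgEquiv.commutes, IsScalarTower.algebraMap_apply B (Localization
      (Algebra.algebraMapSubmonoid B p.primeCompl)), Ideal.Quotient.algebraMap_eq,
    Ideal.Quotient.eq_zero_iff_mem,
    IsLocalization.algebraMap_mem_map_algebraMap_iff (Algebra.algebraMapSubmonoid B p.primeCompl)] at h4
  obtain ⟨_, ⟨t, ht, rfl⟩, htm⟩ := h4
  rw [Ideal.map] at htm
  obtain ⟨T, hT, hTm⟩ := Submodule.mem_span_finite_of_mem_span htm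
  choose! a ha using fun y (hy : y ∈ T) => hT hy
  refine ⟨Ideal.span (T.image a), C t * P, ⟨T.image a, rfl⟩, ?_, ?_, ?_⟩
  · rw [Ideal.span_le]
    intro y hy
    obtain ⟨z, hz, rfl⟩ := Finset.mem_image.mp hy
    exact (ha z hz).1
  · intro hmem
    by_cases hc : t * P.leadingCoeff = 0
    · rcases Ideal.IsPrime.mem_or_mem ‹p.IsPrime› (show t * P.leadingCoeff ∈ p by simp [hc]) with h | h
      exacts [ht h, hlead h]
    · rw [leadingCoeff_mul' (by simpa using hc), leadingCoeff_C] at hmem
      rcases Ideal.IsPrime.mem_or_mem ‹p.IsPrime› hmem with h | h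
      exacts [ht h, hlead h]
  · rw [map_mul, aeval_C]
    refine Submodule.span_le.mpr (fun y hy => ?_) hTm
    rw [← (ha y hy).2]
    exact Ideal.mem_map_of_mem _ (Ideal.subset_span (Finset.mem_image_of_mem a hy))

/-- A prime minimal over the annihilator of a nonzero element. -/
theorem exists_prime_ann (g : B) (hg : g ≠ 0) :
    ∃ (q : Ideal B) (_ : q.IsPrime), (∀ t, t * g = 0 → t ∈ q) ∧
      ∀ a ∈ q, ∃ (v : B) (n : ℕ), v ∉ q ∧ v * a ^ n * g = 0 := by
  set K : Ideal B := LinearMap.ker (LinearMap.mulRight B g) with hK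
  have hK1 : K ≠ ⊤ := fun h => hg (by
    have : (1 : B) ∈ K := h ▸ Submodule.mem_top
    simpa [hK] using this)
  obtain ⟨M, hM, hle⟩ := Ideal.exists_le_maximal K hK1
  obtain ⟨q, hq, -⟩ := Ideal.exists_minimalPrimes_le hle
  haveI hqp : q.IsPrime := hq.1.1
  refine ⟨q, hqp, fun t ht => hq.1.2 (by simpa [hK] using ht), fun a ha => ?_⟩
  by_contra h
  push Not at h
  obtain ⟨Q, hQ, hQK, hQd⟩ := Ideal.exists_le_prime_disjoint K (q.primeCompl ⊔ Submonoid.powers a)
    (Set.disjoint_left.mpr fun y hyK hyS => by
      obtain ⟨v, hv, _, ⟨n, rfl⟩, rfl⟩ := Submonoid.mem_sup.mp hyS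
      exact h v n hv (by simpa [hK] using hyK))
  have hQq : Q ≤ q := fun y hy => by
    by_contra hyq
    exact Set.disjoint_left.mp hQd hy (Submonoid.mem_sup_left hyq)
  have hqQ := hq.2 ⟨hQ, hQK⟩ hQq ha
  exact Set.disjoint_left.mp hQd hqQ (Submonoid.mem_sup_right (Submonoid.mem_powers a))

/-- An ideal of an algebra which is, near `p`, integral and contained in no prime over `p`,
meets the complement of `p`. -/
theorem exists_not_mem_of_integral {B0 : Type u} [CommRing B0] [Algebra A B0] (p : Ideal A)
    [p.IsPrime] (𝔟 : Ideal B0)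
    (hint : ∀ (C₁ : Type u) [CommRing C₁] [Algebra B0 C₁] [Algebra (Localization.AtPrime p) C₁]
      [Algebra A C₁] [IsScalarTower A (Localization.AtPrime p) C₁] [IsScalarTower A B0 C₁],
      (∀ x ∈ 𝔟, algebraMap B0 C₁ x = 0) →
        ∀ y : B0, IsIntegral (Localization.AtPrime p) (algebraMap B0 C₁ y))
    (hpr : ∀ (Q : Ideal B0) [Q.IsPrime], Q.comap (algebraMap A B0) = p → ¬ 𝔟 ≤ Q) :
    ∃ s ∉ p, algebraMap A B0 s ∈ 𝔟 := by
  by_contra hcon
  push Not at hcon
  let M := Algebra.algebraMapSubmonoid B0 p.primeCompl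
  let K : Ideal (Localization M) := 𝔟.map (algebraMap B0 (Localization M))
  have hne : K ≠ ⊤ :=
    (IsLocalization.map_algebraMap_ne_top_iff_disjoint M (Localization M) 𝔟).mpr
      (Set.disjoint_left.mpr (by rintro _ ⟨s, hs, rfl⟩ hy; exact hcon s hs hy))
  haveI : Nontrivial (Localization M ⧸ K) := Ideal.Quotient.nontrivial_iff.mpr hne
  have hzero : ∀ x ∈ 𝔟, algebraMap B0 (Localization M ⧸ K) x = 0 := fun x hx => by
    rw [IsScalarTower.algebraMap_apply B0 (Localization M) (Localization M ⧸ K)]
    exact Ideal.Quotient.eq_zero_iff_mem.mpr (Ideal.mem_map_of_mem _ hx)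
  haveI : Algebra.IsIntegral (Localization.AtPrime p) (Localization M ⧸ K) := by
    refine ⟨fun z => ?_⟩
    obtain ⟨z, rfl⟩ := Ideal.Quotient.mk_surjective z
    obtain ⟨y, ⟨_, s, hs, rfl⟩, rfl⟩ := IsLocalization.exists_mk'_eq M z
    have hu := IsLocalization.map_units (Localization.AtPrime p) (⟨s, hs⟩ : p.primeCompl)
    have e1 := congrArg (Ideal.Quotient.mk K) (IsLocalization.mk'_spec (Localization M) y
      (⟨algebraMap A B0 s, s, hs, rfl⟩ : M))
    rw [map_mul] at e1
    have e2 : (Ideal.Quotient.mk K) (IsLocalization.mk' (Localization M) y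
        (⟨algebraMap A B0 s, s, hs, rfl⟩ : M)) =
        algebraMap (Localization.AtPrime p) (Localization M ⧸ K) (↑hu.unit⁻¹) *
          algebraMap B0 (Localization M ⧸ K) y := by
      rw [IsScalarTower.algebraMap_apply B0 (Localization M) (Localization M ⧸ K),
        Ideal.Quotient.algebraMap_eq, ← e1, mul_left_comm]
      conv_lhs => rw [← mul_one (Ideal.Quotient.mk K _)]
      congr 1
      rw [← IsScalarTower.algebraMap_apply A B0 (Localization M), ← Ideal.Quotient.algebraMap_eq,
        ← IsScalarTower.algebraMap_apply A (Localization M) (Localization M ⧸ K),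
        IsScalarTower.algebraMap_apply A (Localization.AtPrime p) (Localization M ⧸ K),
        ← map_mul]
      simp
    rw [e2]
    exact isIntegral_algebraMap.mul (hint _ hzero y)
  obtain ⟨N, hN⟩ := Ideal.exists_maximal (Localization M ⧸ K)
  haveI := hN.isPrime
  have hNA : N.comap (algebraMap A (Localization M ⧸ K)) = p := by
    rw [IsScalarTower.algebraMap_eq A (Localization.AtPrime p) (Localization M ⧸ K),
      ← Ideal.comap_comap]
    haveI := Ideal.isMaximal_comap_of_isIntegral_of_isMaximal (R := Localization.AtPrime p)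
      (S := Localization M ⧸ K) N
    rw [IsLocalRing.eq_maximalIdeal this]
    exact IsLocalization.AtPrime.comap_maximalIdeal (Localization.AtPrime p) p
  refine hpr (N.comap (algebraMap B0 (Localization M ⧸ K))) ?_ fun x hx => ?_
  · rw [Ideal.comap_comap, ← IsScalarTower.algebraMap_eq, hNA]
  · rw [Ideal.mem_comap, hzero x hx]; exact zero_mem N

/-- First stage: a finitely generated ideal killing `g` modulo which the algebra is finite. -/
theorem stage_one [Algebra.FiniteType A B] [Algebra.QuasiFinite A B] (g : B) (hg : g ≠ 0) :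
    ∃ (h : A) (b : B) (q : Ideal B) (_ : q.IsPrime) (J : Ideal A),
      algebraMap A B h ∉ q ∧ b ∉ q ∧ J.FG ∧ J ≤ q.comap (algebraMap A B) ∧
      (∀ t, t * g = 0 → t ∈ q) ∧
      ∀ (A' B' : Type u) [CommRing A'] [CommRing B'] [Algebra A A'] [Algebra B B'] [Algebra A' B']
        [Algebra A B'] [IsScalarTower A A' B'] [IsScalarTower A B B']
        [IsLocalization.Away h A'] [IsLocalization.Away (algebraMap A B h * b) B'],
        (∀ j ∈ J.map (algebraMap A A'), algebraMap A' B' j * algebraMap B B' g = 0) ∧
        Module.Finite A' (B' ⧸ (J.map (algebraMap A A')).map (algebraMap A' B')) := by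
  classical
  obtain ⟨q, hqp, hann, hmin⟩ := exists_prime_ann g hg
  set p := q.comap (algebraMap A B) with hp
  haveI : q.LiesOver p := ⟨rfl⟩
  obtain ⟨b0, hb0, hb0'⟩ := Ideal.exists_not_mem_forall_mem_of_ne_of_liesOver p q
  -- work on `B0 = B[1/b0]`
  set B0 := Localization.Away b0
  haveI : Algebra.FiniteType B B0 :=
    IsLocalization.finiteType_of_monoid_fg (Submonoid.powers b0) B0
  haveI : Algebra.FiniteType A B0 := Algebra.FiniteType.trans inferInstance ‹Algebra.FiniteType B B0›
  haveI : Algebra.QuasiFinite A B0 := Algebra.QuasiFinite.of_isLocalization (Submonoid.powers b0)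
  obtain ⟨gens, hgens⟩ := ‹Algebra.FiniteType A B0›.out
  choose I P hIfg hIp hPl hPI using fun x : B0 => exists_polynomial p x
  set I0 : Ideal A := ⨆ x ∈ gens, I x with hI0
  have hI0fg : I0.FG := Submodule.fg_biSup _ _ fun x _ => hIfg x
  have hI0p : I0 ≤ p := iSup₂_le fun x _ => hIp x
  set h0 : A := ∏ x ∈ gens, (P x).leadingCoeff with hh0
  have hh0p : h0 ∉ p := fun hmem => by
    obtain ⟨x, hx, hxp⟩ := (Ideal.IsPrime.prod_mem_iff).mp hmem
    exact hPl x hxp
  -- kill `g`
  obtain ⟨G, hG⟩ := hI0fg
  choose! v m hv hvm using fun (a : A) (ha : a ∈ G) => hmin (algebraMap A B a)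
    (hI0p (hG ▸ Ideal.subset_span ha))
  set n := G.sup m + 1
  set J : Ideal A := Ideal.span (G.image (· ^ n)) with hJdef
  set b1 : B := ∏ a ∈ G, v a with hb1
  have hb1q : b1 ∉ q := fun hmem => by
    obtain ⟨x, hx, hxp⟩ := (Ideal.IsPrime.prod_mem_iff).mp hmem
    exact hv x hx hxp
  -- `b1` becomes invertible modulo `I0` over `p`
  set C := B0 ⧸ I0.map (algebraMap A B0)
  have hgen : ∀ (A₁ C₁ : Type u) [CommRing A₁] [CommRing C₁] [Algebra A A₁] [Algebra B0 C₁]
      [Algebra A₁ C₁] [Algebra A C₁] [IsScalarTower A A₁ C₁] [IsScalarTower A B0 C₁],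
      IsUnit (algebraMap A A₁ h0) → (∀ a ∈ G, IsNilpotent (algebraMap A C₁ a)) →
      ∀ y : B0, IsIntegral A₁ (algebraMap B0 C₁ y) := by
    intro A₁ C₁ _ _ _ _ _ _ _ _ hu hnil y
    have hy : y ∈ Algebra.adjoin A (gens : Set B0) := hgens ▸ Algebra.mem_top
    induction hy using Algebra.adjoin_induction with
    | mem x hx =>
      obtain ⟨u, hu'⟩ := isUnit_of_dvd_unit (map_dvd (algebraMap A A₁)
        (Finset.dvd_prod_of_mem (fun x => (P x).leadingCoeff) hx)) hu
      have hN : IsNilpotent (aeval (algebraMap B0 C₁ x) (P x)) := by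
        rw [aeval_algebraMap_apply]
        refine mem_nilradical.mp ?_
        have : I0.map (algebraMap A B0) ≤ (nilradical C₁).comap (algebraMap B0 C₁) := by
          rw [← hG, Ideal.map_span, Ideal.span_le]
          rintro _ ⟨a, ha, rfl⟩
          rw [SetLike.mem_coe, Ideal.mem_comap, ← IsScalarTower.algebraMap_apply]
          exact mem_nilradical.mpr (hnil a ha)
        exact this (Ideal.map_mono (le_iSup₂ (f := fun x _ => I x) x hx) (hPI x))
      obtain ⟨N, hN⟩ := hN
      set P' := Polynomial.C (↑u⁻¹ : A₁) * (P x).map (algebraMap A A₁)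
      have hm : P'.Monic := by
        refine monic_of_natDegree_le_of_coeff_eq_one (P x).natDegree
          ((natDegree_C_mul_le _ _).trans natDegree_map_le) ?_
        rw [coeff_C_mul, coeff_map, coeff_natDegree, ← hu', Units.inv_mul]
      refine ⟨P' ^ N, hm.pow N, ?_⟩
      rw [← aeval_def, map_pow, map_mul, aeval_map_algebraMap, mul_pow, hN, mul_zero]
    | algebraMap r =>
      rw [← IsScalarTower.algebraMap_apply, IsScalarTower.algebraMap_apply A A₁ C₁]
      exact isIntegral_algebraMap
    | add a b _ _ ha hb => rw [map_add]; exact ha.add hb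
    | mul a b _ _ ha hb => rw [map_mul]; exact ha.mul hb
  obtain ⟨s, hsp, hs⟩ : ∃ s ∉ p, algebraMap A B0 s ∈
      Ideal.span {algebraMap B B0 b1} ⊔ I0.map (algebraMap A B0) := by
    refine exists_not_mem_of_integral p _ (fun C₁ _ _ _ _ _ _ hC y => ?_) (fun Q _ hQA hle => ?_)
    · exact hgen (Localization.AtPrime p) C₁
        (IsLocalization.map_units _ (⟨h0, hh0p⟩ : p.primeCompl))
        (fun a ha => ⟨1, by
          rw [pow_one, IsScalarTower.algebraMap_apply A B0 C₁]
          exact hC _ (Submodule.mem_sup_right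
            (Ideal.mem_map_of_mem _ (hG ▸ Ideal.subset_span ha)))⟩) y
    · have hQA' : (Q.comap (algebraMap B B0)).comap (algebraMap A B) = p := by
        rw [Ideal.comap_comap, ← IsScalarTower.algebraMap_eq, hQA]
      have hQb : b0 ∉ Q.comap (algebraMap B B0) := fun h' =>
        Ideal.IsPrime.ne_top ‹Q.IsPrime› (Ideal.eq_top_of_isUnit_mem _ h'
          (IsLocalization.Away.algebraMap_isUnit b0))
      have hQq : Q.comap (algebraMap B B0) = q := by
        by_contra hne'
        exact hQb (hb0' _ inferInstance hne' ⟨hQA'.symm⟩)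
      exact hb1q (hQq.le (hle (Submodule.mem_sup_left
        (Ideal.subset_span (Set.mem_singleton (algebraMap B B0 b1))))))
  refine ⟨h0 * s, b0 * b1, q, hqp, J, fun hmem => ?_, fun hmem => ?_, ⟨_, rfl⟩, ?_, hann, ?_⟩
  · rcases Ideal.IsPrime.mem_or_mem (inferInstance : p.IsPrime) hmem with h | h
    exacts [hh0p h, hsp h]
  · rcases Ideal.IsPrime.mem_or_mem hqp hmem with h | h
    exacts [hb0 h, hb1q h]
  · rw [hJdef, Ideal.span_le]
    intro y hy
    obtain ⟨a, ha, rfl⟩ := Finset.mem_image.mp hy
    exact Ideal.pow_mem_of_mem _ (hI0p (hG ▸ Ideal.subset_span ha)) n (Nat.succ_pos _)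
  intro A' B' _ _ _ _ _ _ _ _ _ _
  have hu : IsUnit (algebraMap B B' (algebraMap A B (h0 * s) * (b0 * b1))) :=
    IsLocalization.Away.algebraMap_isUnit _
  rw [map_mul, map_mul (algebraMap B B') b0, IsUnit.mul_iff, IsUnit.mul_iff] at hu
  obtain ⟨-, hub0, hub1⟩ := hu
  constructor
  · intro j hj
    rw [Ideal.map_span] at hj
    induction hj using Submodule.span_induction with
    | mem x hx =>
      obtain ⟨y, hy, rfl⟩ := hx
      obtain ⟨a, ha, rfl⟩ := Finset.mem_image.mp hy
      have h1 : b1 * (algebraMap A B (a ^ n) * g) = 0 := by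
        have hnm : m a ≤ n := le_trans (Finset.le_sup ha) (Nat.le_succ _)
        have := hvm a ha
        rw [hb1, ← Finset.prod_erase_mul _ _ ha, map_pow, ← Nat.sub_add_cancel hnm, pow_add]
        linear_combination ((∏ x ∈ G.erase a, v x) * algebraMap A B a ^ (n - m a)) * this
      rw [← IsScalarTower.algebraMap_apply, IsScalarTower.algebraMap_apply A B B', ← map_mul]
      refine (hub1.mul_right_eq_zero).mp ?_
      rw [← map_mul, h1, map_zero]
    | zero => simp
    | add x y _ _ h1 h2 => rw [map_add, add_mul, h1, h2, add_zero]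
    | smul t x _ h1 => rw [smul_eq_mul, map_mul, mul_assoc, h1, mul_zero]
  · set JB := (J.map (algebraMap A A')).map (algebraMap A' B') with hJB
    set D := B' ⧸ JB
    letI : Algebra B0 B' := (IsLocalization.Away.lift b0 hub0).toAlgebra
    haveI : IsScalarTower B B0 B' :=
      IsScalarTower.of_algebraMap_eq fun x => (IsLocalization.Away.lift_eq b0 hub0 x).symm
    haveI : IsScalarTower A B0 B' := IsScalarTower.of_algebraMap_eq fun x => by
      rw [IsScalarTower.algebraMap_apply A B B', IsScalarTower.algebraMap_apply A B B0,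
        ← IsScalarTower.algebraMap_apply B B0 B']
    have hnil : ∀ a ∈ G, IsNilpotent (algebraMap A D a) := fun a ha => ⟨n, by
      rw [← map_pow, IsScalarTower.algebraMap_apply A A' D, IsScalarTower.algebraMap_apply A' B' D,
        Ideal.Quotient.algebraMap_eq, Ideal.Quotient.eq_zero_iff_mem]
      exact Ideal.mem_map_of_mem _ (Ideal.mem_map_of_mem _
        (Ideal.subset_span (Finset.mem_image_of_mem _ ha)))⟩
    have hh : IsUnit (algebraMap A A' (h0 * s)) := IsLocalization.Away.algebraMap_isUnit _
    rw [map_mul, IsUnit.mul_iff] at hh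
    have hint := hgen A' D hh.1 hnil
    haveI : Algebra.FiniteType A B' := by
      haveI : Algebra.FiniteType B B' :=
        IsLocalization.finiteType_of_monoid_fg (Submonoid.powers (algebraMap A B (h0 * s) * (b0 * b1))) B'
      exact Algebra.FiniteType.trans (S := B) inferInstance inferInstance
    haveI : Algebra.FiniteType A' B' := Algebra.FiniteType.of_restrictScalars_finiteType A A' B'
    haveI : Algebra.FiniteType A' D :=
      Algebra.FiniteType.trans (S := B') inferInstance inferInstance
    haveI : Algebra.IsIntegral A' D := by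
      -- `b1` is invertible with integral inverse
      obtain ⟨c, i, hi, hci⟩ : ∃ c, ∃ i ∈ I0.map (algebraMap A B0),
          c * algebraMap B B0 b1 + i = algebraMap A B0 s := by
        obtain ⟨y, hy, i, hi, e⟩ := Submodule.mem_sup.mp hs
        obtain ⟨c, rfl⟩ := Ideal.mem_span_singleton'.mp hy
        exact ⟨c, i, hi, e⟩
      set S' := integralClosure A' D
      have hmem : ∀ y : B0, algebraMap B0 D y ∈ S' := hint
      have hinil : IsNilpotent (⟨algebraMap B0 D i, hmem i⟩ : S') := by
        have : IsNilpotent (algebraMap B0 D i) := mem_nilradical.mp <| by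
          have h' : I0.map (algebraMap A B0) ≤ (nilradical D).comap (algebraMap B0 D) := by
            rw [← hG, Ideal.map_span, Ideal.span_le]
            rintro _ ⟨a, ha, rfl⟩
            rw [SetLike.mem_coe, Ideal.mem_comap, ← IsScalarTower.algebraMap_apply]
            exact mem_nilradical.mpr (hnil a ha)
          exact h' hi
        obtain ⟨N, hN⟩ := this
        exact ⟨N, Subtype.ext (by simpa using hN)⟩
      have hsu : IsUnit (⟨algebraMap A D s, IsScalarTower.algebraMap_apply A A' D s ▸
          S'.algebraMap_mem _⟩ : S') := by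
        have := hh.2.map (algebraMap A' S')
        convert this using 1
        exact Subtype.ext (IsScalarTower.algebraMap_apply A A' D s)
      have hbu : IsUnit (⟨algebraMap B0 D (algebraMap B B0 b1), hmem _⟩ : S') := by
        refine isUnit_of_mul_isUnit_right (x := (⟨algebraMap B0 D c, hmem c⟩ : S')) ?_
        have e : (⟨algebraMap B0 D c, hmem c⟩ : S') * ⟨algebraMap B0 D (algebraMap B B0 b1), hmem _⟩
            = -⟨algebraMap B0 D i, hmem i⟩ + ⟨algebraMap A D s, IsScalarTower.algebraMap_apply A A' D s ▸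
          S'.algebraMap_mem _⟩ := by
          refine Subtype.ext ?_
          show algebraMap B0 D c * _ = -algebraMap B0 D i + algebraMap A D s
          rw [IsScalarTower.algebraMap_apply A B0 D s, ← hci, map_add, map_mul]
          ring
        rw [e]
        exact hinil.neg.isUnit_add_right_of_commute hsu (Commute.all _ _)
      refine ⟨fun z => ?_⟩
      obtain ⟨z, rfl⟩ := Ideal.Quotient.mk_surjective z
      obtain ⟨y, ⟨_, N, rfl⟩, rfl⟩ := IsLocalization.exists_mk'_eq
        (Submonoid.powers (algebraMap A B (h0 * s) * (b0 * b1))) z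
      have hb0u : IsUnit (⟨algebraMap B0 D (algebraMap B B0 b0), hmem _⟩ : S') := by
        obtain ⟨w, hw⟩ := (IsLocalization.Away.algebraMap_isUnit b0 : IsUnit (algebraMap B B0 b0))
        refine IsUnit.of_mul_eq_one ⟨algebraMap B0 D ↑w⁻¹, hmem _⟩ (Subtype.ext ?_)
        show algebraMap B0 D _ * algebraMap B0 D _ = 1
        rw [← map_mul, ← hw, Units.mul_inv, map_one]
      have hAu : IsUnit (⟨algebraMap B0 D (algebraMap A B0 (h0 * s)), hmem _⟩ : S') := by
        have := (IsLocalization.Away.algebraMap_isUnit (h0 * s) :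
          IsUnit (algebraMap A A' (h0 * s))).map (algebraMap A' S')
        convert this using 1
        refine Subtype.ext ?_
        show algebraMap B0 D (algebraMap A B0 (h0 * s)) = algebraMap A' D (algebraMap A A' (h0 * s))
        rw [← IsScalarTower.algebraMap_apply, ← IsScalarTower.algebraMap_apply]
      obtain ⟨w, hw⟩ := ((hAu.mul (hb0u.mul hbu)).pow N)
      have hwD : (w : S').1 = algebraMap B D ((algebraMap A B (h0 * s) * (b0 * b1)) ^ N) := by
        rw [hw]
        show (algebraMap B0 D (algebraMap A B0 (h0 * s)) *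
          (algebraMap B0 D (algebraMap B B0 b0) * algebraMap B0 D (algebraMap B B0 b1))) ^ N = _
        rw [IsScalarTower.algebraMap_apply A B B0, IsScalarTower.algebraMap_apply B B0 D,
          ← map_mul, ← map_mul, ← map_mul, ← map_mul, map_pow, map_pow]
      have : Ideal.Quotient.mk JB (IsLocalization.mk' B' y
          (⟨_, N, rfl⟩ : Submonoid.powers (algebraMap A B (h0 * s) * (b0 * b1)))) =
          (↑w⁻¹ : S').1 * algebraMap B0 D (algebraMap B B0 y) := by
        have e1 := congrArg (Ideal.Quotient.mk JB) (IsLocalization.mk'_spec' B' y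
          (⟨_, N, rfl⟩ : Submonoid.powers (algebraMap A B (h0 * s) * (b0 * b1))))
        have hmulD := map_mul (Ideal.Quotient.mk JB)
        rw [hmulD] at e1
        rw [← IsScalarTower.algebraMap_apply B B0 D, IsScalarTower.algebraMap_apply B B' D,
          Ideal.Quotient.algebraMap_eq, ← e1, ← mul_assoc ((↑w⁻¹ : S') : D)]
        conv_lhs => rw [← one_mul (Ideal.Quotient.mk _ _)]
        congr 1
        show 1 = _ * algebraMap B D ((algebraMap A B (h0 * s) * (b0 * b1)) ^ N)
        rw [← hwD, ← Subalgebra.coe_mul, Units.inv_mul]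
        rfl
      rw [this]
      exact mul_mem (↑w⁻¹ : S').2 (hmem _)
    exact Algebra.IsIntegral.finite

/-- Second stage: free the quotient and apply the torsion module construction. -/
theorem stage_two [Module.Flat A B] [Algebra.FinitePresentation A B] (J : Ideal A) (hJ : J.FG)
    [Module.Finite A (B ⧸ J.map (algebraMap A B))] (q : Ideal B) [q.IsPrime]
    (hJq : J ≤ q.comap (algebraMap A B)) (g : B)
    (hg : ∀ j ∈ J, algebraMap A B j * g = 0) (hann : ∀ t, t * g = 0 → t ∈ q) :
    ∃ a : A, algebraMap A B a ∉ q ∧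
      ∀ (A' B' : Type u) [CommRing A'] [CommRing B'] [Algebra A A'] [Algebra B B'] [Algebra A' B']
        [Algebra A B'] [IsScalarTower A A' B'] [IsScalarTower A B B'] [Module.Flat A' B']
        [IsLocalization.Away a A'] [IsLocalization.Away (algebraMap A B a) B'],
        algebraMap B B' g ≠ 0 ∧ ∃ (F : Ideal A') (r : ℕ), 0 < r ∧
          ∃ φ : (Fin r → ↥F) →ₗ[A'] B', Function.Injective φ ∧
            algebraMap B B' g ∈ LinearMap.range φ := by
  classical
  set p := q.comap (algebraMap A B) with hp
  set JB := J.map (algebraMap A B) with hJBdef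
  set R := A ⧸ J
  set D := B ⧸ JB
  haveI : Algebra.FinitePresentation R D := by
    haveI : Algebra.FinitePresentation A D := Algebra.FinitePresentation.quotient (hJ.map _)
    exact Algebra.FinitePresentation.of_restrict_scalars_finitePresentation A R D
  haveI : Module.Finite R D := Module.Finite.of_restrictScalars_finite A R D
  haveI : Module.FinitePresentation R D := Module.FinitePresentation.of_finite_of_finitePresentation R D
  haveI : Module.Flat R D :=
    Module.Flat.of_linearEquiv (Algebra.TensorProduct.quotIdealMapEquivQuotTensor B J).toLinearEquiv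
  have hAD : ∀ t : A, @Eq D (algebraMap R D (Ideal.Quotient.mk J t))
      (algebraMap A (B ⧸ JB) t) := fun _ => rfl
  haveI hpbar : (p.map (Ideal.Quotient.mk J)).IsPrime :=
    Ideal.map_isPrime_of_surjective Ideal.Quotient.mk_surjective (by rwa [Ideal.mk_ker])
  have hmemp : ∀ a : A, Ideal.Quotient.mk J a ∈ p.map (Ideal.Quotient.mk J) → a ∈ p := fun a h => by
    obtain ⟨a', ha', e⟩ := (Ideal.mem_map_iff_of_surjective _ Ideal.Quotient.mk_surjective).mp h
    rw [Ideal.Quotient.mk_eq_mk_iff_sub_mem] at e
    have := sub_mem ha' (hJq e)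
    simpa using this
  have hnt : Nontrivial (LocalizedModule (p.map (Ideal.Quotient.mk J)).primeCompl D) := by
    refine ⟨LocalizedModule.mkLinearMap _ D 1, 0, fun h => ?_⟩
    obtain ⟨⟨s, hs⟩, hse⟩ := (IsLocalizedModule.eq_zero_iff
      (p.map (Ideal.Quotient.mk J)).primeCompl _).mp h
    obtain ⟨s, rfl⟩ := Ideal.Quotient.mk_surjective s
    apply hs
    refine Ideal.mem_map_of_mem _ ?_
    show algebraMap A B s ∈ q
    have hs' : algebraMap A B s ∈ JB := by
      rw [← Ideal.Quotient.eq_zero_iff_mem]
      simp [Submonoid.smul_def, Algebra.smul_def] at hse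
      exact (hAD s).symm.trans hse
    exact Ideal.map_le_iff_le_comap.mpr hJq hs'
  obtain ⟨rbar, n, d, hr, hn, hspan, hind⟩ :=
    exists_basis_away (p.map (Ideal.Quotient.mk J)) D hnt
  obtain ⟨a, rfl⟩ := Ideal.Quotient.mk_surjective rbar
  choose e he using fun i => Ideal.Quotient.mk_surjective (d i)
  refine ⟨a, fun h => hr (Ideal.mem_map_of_mem _ h), ?_⟩
  intro A' B' _ _ _ _ _ _ _ _ _ _ _
  refine ⟨algebraMap_ne_zero (algebraMap A B a) g q (fun h => hr (Ideal.mem_map_of_mem _ h)) hann, ?_⟩
  obtain ⟨au, hau⟩ := (IsLocalization.Away.algebraMap_isUnit a : IsUnit (algebraMap A A' a))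
  have hmapJ : (J.map (algebraMap A A')).map (algebraMap A' B') = JB.map (algebraMap B B') := by
    rw [hJBdef, Ideal.map_map, Ideal.map_map, ← IsScalarTower.algebraMap_eq,
      ← IsScalarTower.algebraMap_eq]
  have hsum : ∀ c : Fin n → A, Ideal.Quotient.mk JB (∑ i, c i • e i) =
      ∑ i, Ideal.Quotient.mk J (c i) • d i := fun c => by
    simp [map_sum, Algebra.smul_def, ← he]
    rfl
  have hsum' : ∀ c : Fin n → A, algebraMap B B' (∑ i, c i • e i) =
      ∑ i, algebraMap A A' (c i) • algebraMap B B' (e i) := fun c => by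
    simp [map_sum, Algebra.smul_def, ← IsScalarTower.algebraMap_apply]
  obtain ⟨F, φ, hφ, hgφ⟩ := exists_injective_of_basis (A := A') (B := B')
    (J.map (algebraMap A A')) (hJ.map _) (fun i => algebraMap B B' (e i))
    (fun z => by
      obtain ⟨x, ⟨_, k, rfl⟩, rfl⟩ :=
        IsLocalization.exists_mk'_eq (Submonoid.powers (algebraMap A B a)) z
      obtain ⟨N, c, hc⟩ := hspan (Ideal.Quotient.mk JB x)
      choose c' hc' using fun i => Ideal.Quotient.mk_surjective (c i)
      have h1 : a ^ N • x - ∑ i, c' i • e i ∈ JB := by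
        rw [← Ideal.Quotient.eq_zero_iff_mem, map_sub, hsum, sub_eq_zero]
        simp only [hc']
        rw [← hc]
        simp [Algebra.smul_def, ← map_pow]
        rfl
      refine ⟨fun i => (↑(au⁻¹ ^ (N + k)) : A') * algebraMap A A' (c' i), ?_⟩
      rw [hmapJ]
      have h2 := Ideal.mul_mem_left _ (algebraMap A' B' ↑(au⁻¹ ^ (N + k)))
        (Ideal.mem_map_of_mem (algebraMap B B') h1)
      rw [map_sub, hsum', mul_sub, ← Algebra.smul_def (↑(au⁻¹ ^ (N + k)) : A'), ← Algebra.smul_def,
        Finset.smul_sum] at h2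
      convert h2 using 2
      · rw [Algebra.smul_def, Algebra.smul_def, map_mul,
          ← IsScalarTower.algebraMap_apply A B B', IsScalarTower.algebraMap_apply A A' B', map_pow,
          ← hau, ← mul_assoc, ← map_mul, IsLocalization.mk'_eq_iff_eq_mul.mpr]
        rw [mul_assoc, mul_comm (algebraMap B B' x), ← mul_assoc]
        conv_lhs => rw [← one_mul (algebraMap B B' x)]
        congr 1
        show 1 = _ * algebraMap B B' ((algebraMap A B a) ^ k)
        rw [map_pow, ← IsScalarTower.algebraMap_apply A B B',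
          IsScalarTower.algebraMap_apply A A' B', ← hau, ← map_pow, ← map_mul, ← map_one
          (algebraMap A' B')]
        congr 1
        rw [← Units.val_pow_eq_pow_val, ← Units.val_pow_eq_pow_val, ← Units.val_mul, ← Units.val_mul]
        simp [pow_add]
      · exact Finset.sum_congr rfl fun i _ => mul_smul _ _ _)
    (fun c hc i => by
      obtain ⟨⟨_, k, rfl⟩, hk⟩ := IsLocalization.exist_integer_multiples_of_finite
        (Submonoid.powers a) c
      choose c' hc' using hk
      have h1 : algebraMap B B' (∑ j, c' j • e j) ∈ JB.map (algebraMap B B') := by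
        rw [hsum', ← hmapJ]
        simp_rw [hc', smul_assoc, ← Finset.smul_sum]
        rw [Algebra.smul_def]
        exact Ideal.mul_mem_left _ _ hc
      obtain ⟨_, ⟨m, rfl⟩, hm⟩ := (IsLocalization.algebraMap_mem_map_algebraMap_iff
        (Submonoid.powers (algebraMap A B a)) B' JB _).mp h1
      have h2 : ∑ j, Ideal.Quotient.mk J (a ^ m * c' j) • d j = 0 := by
        rw [← hsum, Ideal.Quotient.eq_zero_iff_mem]
        simp only [← map_pow, ← Algebra.smul_def, Finset.smul_sum, smul_smul] at hm
        exact hm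
      obtain ⟨N, hN⟩ := hind _ h2 i
      rw [← map_pow, ← map_mul, Ideal.Quotient.eq_zero_iff_mem] at hN
      have h3 := Ideal.mem_map_of_mem (algebraMap A A') hN
      rw [map_mul, map_mul, map_pow, map_pow, hc', Algebra.smul_def, map_pow, ← hau,
        ← Units.val_pow_eq_pow_val, ← Units.val_pow_eq_pow_val, ← Units.val_pow_eq_pow_val,
        ← mul_assoc, ← Units.val_mul, ← mul_assoc, ← Units.val_mul] at h3
      exact (Ideal.unit_mul_mem_iff_mem _ (Units.isUnit _)).mp h3)
    (algebraMap B B' g)
    (fun j hj => by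
      induction hj using Submodule.span_induction with
      | mem x hx =>
        obtain ⟨j, hj, rfl⟩ := hx
        rw [← IsScalarTower.algebraMap_apply, IsScalarTower.algebraMap_apply A B B', ← map_mul,
          hg j hj, map_zero]
      | zero => simp
      | add x y _ _ h1 h2 => rw [map_add, add_mul, h1, h2, add_zero]
      | smul t x _ h1 => rw [smul_eq_mul, map_mul, mul_assoc, h1, mul_zero])
  exact ⟨F, n, hn, φ, hφ, hgφ⟩

end Groth.Agent.QfRank
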