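import Mathlib
import Groth.Agent.QfRank.Stages

set_option autoImplicit false
set_option backward.isDefEq.respectTransparency false
set_option backward.defeqAttrib.useBackward true
set_option linter.style.haveILetI false

/-!
# Sections of flat locally quasi-finite morphisms lie in the image of a torsion module
-/

universe u

open CategoryTheory AlgebraicGeometry TopologicalSpace

namespace Groth.Agent.QfRank

/-- Transfer the prime of stage one to the localized algebra. -/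
theorem exists_prime_localization {A B A' B' : Type u} [CommRing A] [CommRing B] [CommRing A']
    [CommRing B'] [Algebra A B] [Algebra A A'] [Algebra B B'] [Algebra A' B'] [Algebra A B']
    [IsScalarTower A A' B'] [IsScalarTower A B B'] (s : B) [IsLocalization.Away s B']
    (q : Ideal B) [q.IsPrime] (hs : s ∉ q) (g : B) (hann : ∀ t, t * g = 0 → t ∈ q)
    (J : Ideal A) (hJq : J ≤ q.comap (algebraMap A B)) :
    ∃ (q' : Ideal B') (_ : q'.IsPrime), J.map (algebraMap A A') ≤ q'.comap (algebraMap A' B') ∧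
      (∀ t, t * algebraMap B B' g = 0 → t ∈ q') := by
  have hd : Disjoint (Submonoid.powers s : Set B) (q : Set B) := Set.disjoint_left.mpr
    (by rintro _ ⟨n, rfl⟩ h; exact hs (Ideal.IsPrime.mem_of_pow_mem ‹_› n h))
  refine ⟨q.map (algebraMap B B'),
    IsLocalization.isPrime_of_isPrime_disjoint (Submonoid.powers s) B' q ‹_› hd, ?_, fun t ht => ?_⟩
  · rw [Ideal.map_le_iff_le_comap, Ideal.comap_comap, ← IsScalarTower.algebraMap_eq A A' B',
      IsScalarTower.algebraMap_eq A B B', ← Ideal.comap_comap]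
    exact hJq.trans (Ideal.comap_mono Ideal.le_comap_map)
  · obtain ⟨t, ⟨_, n, rfl⟩, rfl⟩ := IsLocalization.exists_mk'_eq (Submonoid.powers s) t
    have h1 : algebraMap B B' (t * g) = 0 := by
      rw [map_mul, ← IsLocalization.mk'_spec' B' t (⟨_, n, rfl⟩ : Submonoid.powers s), mul_assoc,
        ht, mul_zero]
    obtain ⟨⟨_, m, rfl⟩, hm⟩ := (IsLocalization.map_eq_zero_iff (Submonoid.powers s) B' _).mp h1
    have h2 : s ^ m * t ∈ q := hann _ (by rw [mul_assoc]; exact hm)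
    rw [IsLocalization.mk'_mem_iff]
    exact Ideal.mem_map_of_mem _ ((Ideal.IsPrime.mem_or_mem ‹_› h2).resolve_left
      fun h => hs (Ideal.IsPrime.mem_of_pow_mem ‹_› m h))

theorem exists_torsion_module {X S : Scheme.{u}} (f : X ⟶ S) [Flat f]
    [LocallyOfFinitePresentation f] [LocallyQuasiFinite f] (g : Γ(X, ⊤)) (hg : g ≠ 0) :
    ∃ (U : S.Opens) (hU : IsAffineOpen U) (V : X.Opens) (hV : IsAffineOpen V) (hVU : V ≤ f ⁻¹ᵁ U),
      X.presheaf.map (homOfLE le_top).op g ≠ (0 : Γ(X, V)) ∧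
      ∃ (F : Ideal Γ(S, U)) (r : ℕ), 0 < r ∧
        letI := (f.appLE U V hVU).hom.toAlgebra
        ∃ φ : (Fin r → ↥F) →ₗ[Γ(S, U)] Γ(X, V), Function.Injective φ ∧
          X.presheaf.map (homOfLE le_top).op g ∈ LinearMap.range φ := by
  obtain ⟨U₀, hU₀, V₀, hV₀, hVU₀, hg₀⟩ : ∃ (U₀ : S.Opens) (_ : IsAffineOpen U₀) (V₀ : X.Opens)
      (_ : IsAffineOpen V₀) (_ : V₀ ≤ f ⁻¹ᵁ U₀),
      X.presheaf.map (homOfLE le_top).op g ≠ (0 : Γ(X, V₀)) := by
    by_contra hcon
    push Not at hcon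
    refine hg (TopCat.Sheaf.eq_of_locally_eq' X.sheaf
      (fun i : {V : X.affineOpens // ∃ U : S.affineOpens, (V : X.Opens) ≤ f ⁻¹ᵁ U} => i.1.1) ⊤
      (fun _ => homOfLE le_top) ?_ g 0 fun i => ?_)
    · intro x _
      obtain ⟨_, ⟨U, hU, rfl⟩, hxU, -⟩ :=
        S.isBasis_affineOpens.exists_subset_of_mem_open (Set.mem_univ (f x)) isOpen_univ
      obtain ⟨_, ⟨V, hV, rfl⟩, hxV, hVU⟩ :=
        X.isBasis_affineOpens.exists_subset_of_mem_open (a := x) hxU (f ⁻¹ᵁ U).2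
      exact Opens.mem_iSup.mpr ⟨⟨⟨V, hV⟩, ⟨U, hU⟩, hVU⟩, hxV⟩
    · obtain ⟨U, hU⟩ := i.2
      exact (hcon U.1 U.2 i.1.1 i.1.2 hU).trans (map_zero _).symm
  set A := Γ(S, U₀)
  set B := Γ(X, V₀)
  letI : Algebra A B := (f.appLE U₀ V₀ hVU₀).hom.toAlgebra
  haveI : Algebra.FinitePresentation A B := f.finitePresentation_appLE hU₀ hV₀ hVU₀
  haveI : Algebra.QuasiFinite A B :=
    LocallyQuasiFinite.quasiFinite_appLE (f := f) hU₀ hV₀ hVU₀
  obtain ⟨h, b, q, hq, J, hhq, hbq, hJfg, hJq, hann, H1⟩ :=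
    stage_one (A := A) (B := B) _ hg₀
  -- stage one opens
  set U₁ := S.basicOpen h with hU₁def
  set V₁ := X.basicOpen (algebraMap A B h * b) with hV₁def
  have hVU₁ : V₁ ≤ f ⁻¹ᵁ U₁ := by
    refine (X.basicOpen_mul _ _).trans_le (inf_le_left.trans ?_)
    show X.basicOpen (f.appLE U₀ V₀ hVU₀ h) ≤ _
    rw [Scheme.basicOpen_appLE]
    exact inf_le_right
  set A₁ := Γ(S, U₁)
  set B₁ := Γ(X, V₁)
  haveI : IsLocalization.Away h A₁ := hU₀.isLocalization_basicOpen h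
  haveI : IsLocalization.Away (algebraMap A B h * b) B₁ := hV₀.isLocalization_basicOpen _
  letI : Algebra A₁ B₁ := (f.appLE U₁ V₁ hVU₁).hom.toAlgebra
  letI : Algebra A B₁ := (f.appLE U₀ V₁ (hVU₁.trans (f.preimage_mono (S.basicOpen_le h)))).hom.toAlgebra
  haveI : IsScalarTower A A₁ B₁ := IsScalarTower.of_algebraMap_eq' (congrArg CommRingCat.Hom.hom
    (f.map_appLE hVU₁ (homOfLE (S.basicOpen_le h)).op).symm)
  haveI : IsScalarTower A B B₁ := IsScalarTower.of_algebraMap_eq' (congrArg CommRingCat.Hom.hom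
    (f.appLE_map hVU₀ (homOfLE (X.basicOpen_le (algebraMap A B h * b))).op).symm)
  obtain ⟨hJg, hfin⟩ := H1 A₁ B₁
  haveI := hfin
  have hs : algebraMap A B h * b ∉ q := fun hm => (Ideal.IsPrime.mem_or_mem hq hm).elim hhq hbq
  obtain ⟨q₁, hq₁, hJq₁, hann₁⟩ := exists_prime_localization (A' := A₁) (B' := B₁)
    (algebraMap A B h * b) q hs _ hann J hJq
  haveI : Algebra.FinitePresentation A₁ B₁ :=
    f.finitePresentation_appLE (hU₀.basicOpen h) (hV₀.basicOpen _) hVU₁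
  haveI : Module.Flat A₁ B₁ := f.flat_appLE (hU₀.basicOpen h) (hV₀.basicOpen _) hVU₁
  obtain ⟨a, haq, H2⟩ := stage_two (A := A₁) (B := B₁) _ (hJfg.map _) q₁ hJq₁ _ hJg hann₁
  -- stage two opens
  set U₂ := S.basicOpen a
  set V₂ := X.basicOpen (algebraMap A₁ B₁ a)
  have hVU₂ : V₂ ≤ f ⁻¹ᵁ U₂ := by
    show X.basicOpen (f.appLE U₁ V₁ hVU₁ a) ≤ _
    rw [Scheme.basicOpen_appLE]
    exact inf_le_right
  set A₂ := Γ(S, U₂)
  set B₂ := Γ(X, V₂)
  haveI : IsLocalization.Away a A₂ := (hU₀.basicOpen h).isLocalization_basicOpen a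
  haveI : IsLocalization.Away (algebraMap A₁ B₁ a) B₂ := (hV₀.basicOpen _).isLocalization_basicOpen _
  letI : Algebra A₂ B₂ := (f.appLE U₂ V₂ hVU₂).hom.toAlgebra
  letI : Algebra A₁ B₂ := (f.appLE U₁ V₂ (hVU₂.trans (f.preimage_mono (S.basicOpen_le a)))).hom.toAlgebra
  haveI : IsScalarTower A₁ A₂ B₂ := IsScalarTower.of_algebraMap_eq' (congrArg CommRingCat.Hom.hom
    (f.map_appLE hVU₂ (homOfLE (S.basicOpen_le a)).op).symm)
  haveI : IsScalarTower A₁ B₁ B₂ := IsScalarTower.of_algebraMap_eq' (congrArg CommRingCat.Hom.hom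
    (f.appLE_map hVU₁ (homOfLE (X.basicOpen_le (algebraMap A₁ B₁ a))).op).symm)
  haveI : Module.Flat A₂ B₂ :=
    f.flat_appLE ((hU₀.basicOpen h).basicOpen a) ((hV₀.basicOpen _).basicOpen _) hVU₂
  obtain ⟨hne, F, r, hr, φ, hφ, hgφ⟩ := H2 A₂ B₂
  have hcomp : algebraMap B₁ B₂ (algebraMap B B₁ (X.presheaf.map (homOfLE le_top).op g)) =
      X.presheaf.map (homOfLE le_top).op g := by
    show X.presheaf.map _ (X.presheaf.map _ (X.presheaf.map _ g)) = _
    rw [← CommRingCat.comp_apply, ← CommRingCat.comp_apply, ← Functor.map_comp, ← Functor.map_comp]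
    rfl
  refine ⟨U₂, (hU₀.basicOpen h).basicOpen a, V₂, (hV₀.basicOpen _).basicOpen _, hVU₂, ?_, F, r, hr,
    φ, hφ, ?_⟩
  · exact hcomp ▸ hne
  · exact hcomp ▸ hgφ

end Groth.Agent.QfRank
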